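import Cfsg.Agent.H891.DG.Tools
import Cfsg.Agent.H440.TwoGen.HNHe
import Cfsg.Agent.NotCT.Orders

/-!
# `Coh HN` (helper109, task 3341, S4180)

`HN = ⟨x z, y t⟩` and `x z` is an involution.
-/

set_option autoImplicit false

namespace Cfsg.Agent.H109.DG

open Cfsg Cfsg.Agent.H440.TwoGen Cfsg.Agent.H891.Gen Cfsg.Agent.H891.DG

universe u

/-- an involution and a second element generating `HN` -/
theorem gen_hn : ∃ c b : Spor.HN, c ^ 2 = 1 ∧ Subgroup.closure ({c, b} : Set Spor.HN) = ⊤ := by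
  have k1 := HNHe.extra_rel (edges := Spor.HN.edges) (extra := Spor.HN.extra) (r := Spor.HN.y ^ 6) (by simp [Spor.HN.extra])
  have k2 := HNHe.extra_rel (edges := Spor.HN.edges) (extra := Spor.HN.extra) (r := Spor.HN.t ^ 5) (by simp [Spor.HN.extra])
  have k3 := HNHe.extra_rel (edges := Spor.HN.edges) (extra := Spor.HN.extra)
    (r := Spor.HN.t⁻¹ * Spor.HN.y⁻¹ * Spor.HN.t * Spor.HN.y) (by simp [Spor.HN.extra])
  have k4 := HNHe.extra_rel (edges := Spor.HN.edges) (extra := Spor.HN.extra) (r := Spor.HN.z ^ 2) (by simp [Spor.HN.extra])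
  have k5 := HNHe.extra_rel (edges := Spor.HN.edges) (extra := Spor.HN.extra)
    (r := (Spor.HN.x⁻¹ * Spor.HN.t * Spor.HN.x) * (Spor.HN.t ^ 2)) (by simp [Spor.HN.extra])
  have k6 := HNHe.extra_rel (edges := Spor.HN.edges) (extra := Spor.HN.extra) (r := (Spor.HN.z * Spor.HN.t) ^ 3)
    (by simp [Spor.HN.extra])
  have k7 := HNHe.extra_rel (edges := Spor.HN.edges) (extra := Spor.HN.extra) (r := (Spor.HN.z * Spor.HN.x) ^ 2)
    (by simp [Spor.HN.extra])
  simp only [map_mul, map_pow, map_inv] at k1 k2 k3 k4 k5 k6 k7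
  refine ⟨HNHe.h .x * HNHe.h .z, HNHe.h .y * HNHe.h .t, ?_, Cox.eq_top_of_forall _ fun w => ?_⟩
  · have h1 : HNHe.h .x * HNHe.h .z = (HNHe.h .z)⁻¹ * (HNHe.h .z * HNHe.h .x) * ((HNHe.h .z)⁻¹)⁻¹ := by group
    rw [h1, conj_pow]
    have h2 : (HNHe.h .z * HNHe.h .x) ^ 2 = 1 := k7
    rw [h2, mul_one, mul_inv_cancel]
  · obtain ⟨h1, h2, h3, h4⟩ := HNHe.hn_abs (x := HNHe.h .x) (y := HNHe.h .y) (z := HNHe.h .z) (t := HNHe.h .t)
      k1 k2 k3 k4 k5 k6 (Subgroup.closure {HNHe.h .x * HNHe.h .z, HNHe.h .y * HNHe.h .t})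
      (Subgroup.subset_closure (Set.mem_insert_of_mem _ (Set.mem_singleton _)))
      (Subgroup.subset_closure (Set.mem_insert _ _))
    cases w
    · exact h1
    · exact h2
    · exact h3
    · exact h4

/-- the common end: a generating pair with an involution -/
theorem coh_of_gen {T : Type u} [Group T] [Finite T] [IsSimpleGroup T] (hna : ¬ IsMulCommutative T) {K : Type*} [Group K]
    (e : T ≃* K) (h : ∃ c b : K, c ^ 2 = 1 ∧ Subgroup.closure ({c, b} : Set K) = ⊤) : Coh T := by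
  obtain ⟨c, b, hc, hcb⟩ := h
  have h1 : Subgroup.closure ({e.symm c, e.symm b} : Set T) = ⊤ := by
    have h2 : ({e.symm c, e.symm b} : Set T) = e.symm.toMonoidHom '' {c, b} := by
      rw [Set.image_pair]; rfl
    rw [h2, ← MonoidHom.map_closure, hcb, ← MonoidHom.range_eq_map]
    exact MonoidHom.range_eq_top.2 e.symm.surjective
  refine Tools.coh_of_involution hna (c := e.symm c) (b := e.symm b) (by rw [← map_pow, hc, map_one]) ?_ h1
  intro h2
  -- otherwise `T` is cyclic
  apply hna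
  rw [h2, Set.insert_eq, Subgroup.closure_union, Subgroup.closure_singleton_one, bot_sup_eq,
    ← Subgroup.zpowers_eq_closure] at h1
  have : IsCyclic T := ⟨e.symm b, fun x => by
    have h3 : x ∈ Subgroup.zpowers (e.symm b) := by rw [h1]; trivial
    exact h3⟩
  exact IsCyclic.isMulCommutative

/-- a simple group of composite order is not abelian -/
theorem na_of_card {T : Type u} [Group T] [Finite T] [IsSimpleGroup T] {n : ℕ} (h : Nat.card T = n) (hn : ¬ n.Prime) :
    ¬ IsMulCommutative T := by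
  intro hc
  let _ : CommGroup T := { (inferInstance : Group T) with mul_comm := hc.is_comm.comm }
  exact hn (h ▸ IsSimpleGroup.prime_card)

/-- **`Coh HN`** -/
theorem coh_hn {T : Type u} [Group T] [Finite T] [IsSimpleGroup T] (h : Cfsg.Spor.IsoHN T) : Coh T :=
  coh_of_gen (na_of_card (NotCT.Orders.hn h) (by norm_num)) h.some gen_hn

end Cfsg.Agent.H109.DG
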