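import Cfsg.Agent.H109.DG.HN
import Cfsg.Agent.H136.Gen2.Th

/-!
# `Coh Th` (helper109, task 3341, S4180)

`Th = ⟨d s, t z⟩` with `z = b u d u` of order 13 in `C(t)`; `d s` is an involution.
-/

set_option autoImplicit false
set_option Elab.async false

namespace Cfsg.Agent.H109.DG

open Cfsg Cfsg.Agent.H891.Gen Cfsg.Agent.H891.DG Cfsg.Agent.H136.Gen2 Cfsg.Agent.H136.Gen2.Th
  Cfsg.Agent.Th.Hom248 Cfsg.Agent.Th.Gen248

universe u

namespace ThW

/-- `z = b u d u` -/
def z : Wd := pr [.g .b, .g .u, .g .d, .g .u]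
/-- powers of `z` -/
def z2 : Wd := .pow z 2
/-- powers of `z` -/
def z3 : Wd := .pow z 3
/-- powers of `z` -/
def z4 : Wd := .pow z 4
/-- powers of `z` -/
def z5 : Wd := .pow z 5
/-- powers of `z` -/
def z6 : Wd := .pow z 6
/-- powers of `z` -/
def z7 : Wd := .pow z 7
/-- powers of `z` -/
def z8 : Wd := .pow z 8
/-- powers of `z` -/
def z9 : Wd := .pow z 9
/-- powers of `z` -/
def z10 : Wd := .pow z 10
/-- powers of `z` -/
def z11 : Wd := .pow z 11
/-- powers of `z` -/
def z12 : Wd := .pow z 12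

set_option maxRecDepth 100000
set_option maxHeartbeats 1000000

theorem c_tz : q (.mul (.g .t) z) = q (.mul z (.g .t)) := q_eq (by decide +kernel)
theorem o_z : q (.pow z 13) = q .one := q_eq (by decide +kernel)
theorem o_ds : q (.pow (.mul (.g .d) (.g .s)) 2) = q .one := q_eq (by decide +kernel)
theorem c_ds : q (pr [.inv (.mul (.g .d) (.g .s)), .g .T, .mul (.g .d) (.g .s), .g .t]) = q (.g .s) :=
  q_eq (by decide +kernel)
theorem w_a : q (.g .a) = q (pr [.g .d, z9, .g .d, z5, .g .d, z10, .g .d, z3, .g .d, z8, .g .d, z4]) :=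
  q_eq (by decide +kernel)
theorem w_b : q (.g .b) = q (pr [.g .d, z7, .g .d, z3, .g .d, z11, .g .d, z2, .g .d, z10, .g .d, z6]) :=
  q_eq (by decide +kernel)
theorem w_c : q (.g .c) = q (pr [.g .d, z, .g .d, z7, .g .d, z6, .g .d, z12, .g .d]) := q_eq (by decide +kernel)
theorem w_e : q (.g .e) = q (pr [.g .d, z2, .g .d, z10, .g .d, z5, .g .d, z6, .g .d, z3, .g .d, z9]) :=
  q_eq (by decide +kernel)
theorem w_x : q x = q (pr [.g .d, z2, .g .d, z6, .g .d, z2, .g .d, z11, .g .d, z3, .g .d, z]) := q_eq (by decide +kernel)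

end ThW

open ThW in
/-- an involution and a second element generating `Th` -/
theorem gen_th : ∃ c b : Spor.Th, c ^ 2 = 1 ∧ Subgroup.closure ({c, b} : Set Spor.Th) = ⊤ := by
  refine ⟨q (.mul (.g .d) (.g .s)), q (.mul (.g .t) z), ?_, ?_⟩
  · have h := o_ds
    rwa [q_pow, q_one] at h
  set H : Subgroup Cfsg.Spor.Th := Subgroup.closure {q (.mul (.g .d) (.g .s)), q (.mul (.g .t) z)} with hH
  have h1 : q (.mul (.g .d) (.g .s)) ∈ H := Subgroup.subset_closure (by simp)
  have h2 : q (.g .t) * q z ∈ H := by rw [← q_mul]; exact Subgroup.subset_closure (by simp)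
  have e1 := c_tz; have e3 := Th.o_t; have e5 := o_z
  rw [q_mul, q_mul] at e1
  rw [q_pow, q_one] at e3 e5
  obtain ⟨ht, hz⟩ := split_mem e1 e3 e5 (by decide) h2
  have hT : q (.g .T) ∈ H := by
    have : q (.g .T) = (q (.g .t))⁻¹ := map_inv _ _
    rw [this]; exact inv_mem ht
  have hs : q (.g .s) ∈ H := by
    rw [← c_ds]; apply q_pr_mem; intro w hw; simp only [List.mem_cons, List.not_mem_nil, or_false] at hw
    rcases hw with rfl | rfl | rfl | rfl
    · rw [q_inv]; exact inv_mem h1
    all_goals assumption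
  have hd : q (.g .d) ∈ H := by
    rw [q_mul] at h1
    exact (Subgroup.mul_mem_cancel_right H hs).1 h1
  have hS : q (.g .S) ∈ H := by
    have : q (.g .S) = (q (.g .s))⁻¹ := map_inv _ _
    rw [this]; exact inv_mem hs
  have hz2 : q z2 ∈ H := by unfold z2; rw [q_pow]; exact pow_mem hz _
  have hz3 : q z3 ∈ H := by unfold z3; rw [q_pow]; exact pow_mem hz _
  have hz4 : q z4 ∈ H := by unfold z4; rw [q_pow]; exact pow_mem hz _
  have hz5 : q z5 ∈ H := by unfold z5; rw [q_pow]; exact pow_mem hz _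
  have hz6 : q z6 ∈ H := by unfold z6; rw [q_pow]; exact pow_mem hz _
  have hz7 : q z7 ∈ H := by unfold z7; rw [q_pow]; exact pow_mem hz _
  have hz8 : q z8 ∈ H := by unfold z8; rw [q_pow]; exact pow_mem hz _
  have hz9 : q z9 ∈ H := by unfold z9; rw [q_pow]; exact pow_mem hz _
  have hz10 : q z10 ∈ H := by unfold z10; rw [q_pow]; exact pow_mem hz _
  have hz11 : q z11 ∈ H := by unfold z11; rw [q_pow]; exact pow_mem hz _
  have hz12 : q z12 ∈ H := by unfold z12; rw [q_pow]; exact pow_mem hz _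
  have ha : q (.g .a) ∈ H := by
    rw [ThW.w_a]; apply q_pr_mem; intro w hw; simp only [List.mem_cons, List.not_mem_nil, or_false] at hw
    rcases hw with rfl | rfl | rfl | rfl | rfl | rfl | rfl | rfl | rfl | rfl | rfl | rfl <;> assumption
  have hb : q (.g .b) ∈ H := by
    rw [ThW.w_b]; apply q_pr_mem; intro w hw; simp only [List.mem_cons, List.not_mem_nil, or_false] at hw
    rcases hw with rfl | rfl | rfl | rfl | rfl | rfl | rfl | rfl | rfl | rfl | rfl | rfl <;> assumption
  have hc : q (.g .c) ∈ H := by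
    rw [ThW.w_c]; apply q_pr_mem; intro w hw; simp only [List.mem_cons, List.not_mem_nil, or_false] at hw
    rcases hw with rfl | rfl | rfl | rfl | rfl | rfl | rfl | rfl | rfl <;> assumption
  have he : q (.g .e) ∈ H := by
    rw [ThW.w_e]; apply q_pr_mem; intro w hw; simp only [List.mem_cons, List.not_mem_nil, or_false] at hw
    rcases hw with rfl | rfl | rfl | rfl | rfl | rfl | rfl | rfl | rfl | rfl | rfl | rfl <;> assumption
  have hx : q x ∈ H := by
    rw [w_x]; apply q_pr_mem; intro w hw; simp only [List.mem_cons, List.not_mem_nil, or_false] at hw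
    rcases hw with rfl | rfl | rfl | rfl | rfl | rfl | rfl | rfl | rfl | rfl | rfl | rfl <;> assumption
  have hX : q X ∈ H := by unfold X; rw [q_inv]; exact inv_mem hx
  have hu : q (.g .u) ∈ H := by
    rw [Th.w_u]; apply q_pr_mem; intro w hw; simp only [List.mem_cons, List.not_mem_nil, or_false] at hw
    rcases hw with rfl | rfl | rfl | rfl | rfl | rfl | rfl | rfl | rfl <;> assumption
  rw [eq_top_iff, ← PresentedGroup.closure_range_of, Subgroup.closure_le]
  rintro _ ⟨i, rfl⟩
  cases i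
  exacts [ha, hb, hc, hd, he, hs, ht, hu]

/-- **`Coh Th`** -/
theorem coh_th {T : Type u} [Group T] [Finite T] [IsSimpleGroup T] (h : Cfsg.Spor.IsoTh T) : Coh T :=
  coh_of_gen (na_of_card (NotCT.Orders.th h) (by norm_num)) h.some gen_th

end Cfsg.Agent.H109.DG
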